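import Mathlib
import Cfsg.Agent.Lib.Ru.R3.Data

/-! generated certificate -/

set_option autoImplicit false
set_option maxRecDepth 100000
set_option Elab.async false

namespace CfsgLib.Ru.R3

open CfsgLib.Comput CfsgLib.SubCl CfsgLib.Rank3

theorem c_ext : allL (eqChk (stepT 4060 12 W) (idTab 4060 12)) ext.eqns = true := by decide +kernel

theorem c_md : mdOK st 4060 P.L0.hs P.top 0 4043 1 D0 E Rb Rc 1755 2304 0xe081e02 0x6010501 = true := by decide +kernel

theorem c_base : allL (fun b => band (Nat.ble (Nat.succ b) 4060) (allLt (fun j => Bool.rec true (Nat.beq j b)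
    (allLt (fun s => decide (tb XT (Nat.add (Nat.mul s 4060) j) = tb XT (Nat.add (Nat.mul s 4060) b))) 3)) 4060))
    [0, 1, 181, 1040, 2315, 2384, 2] = true := by decide +kernel

theorem c_pc : pcOK sT XT 2 [32, 0x2020, 0x20202020, 0x2020202020202020]
  [([[0x2020], [0x20202020], [0x2020202020202020]], [0x2020]),
  ([[0x20202020], [0x2020202020202020]], [0x20202020]),
  ([[0x2020202020202020]], [0x2020202020202020]),
  ([], [])] = true := by decide +kernel

theorem c_pc5 : pcOK sT XT 5 ys [([[0xe190d]], []),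
  ([], [])] = true := by decide +kernel

theorem c_K : SubCl.leaf st 4060 D0 [(D0, alK)] [] [[32]] 4043 0 = true := by decide +kernel

theorem c_alK : allLt (fun s => Bool.rec true (tb alK s) (band (Nat.beq (Nat.mod 20480 s) 0)
    (Nat.beq (Nat.mod 0 (Nat.div 20480 s)) 0))) (Nat.succ (pop 4060 D0)) = true := by decide +kernel

theorem c_alD : allLt (fun s => Bool.rec true (tb alD s) (band (Nat.beq (Nat.mod 15600 s) 0)
    (Nat.beq (Nat.mod 0 (Nat.div 15600 s)) 0))) (Nat.succ (pop 4060 D0)) = true := by decide +kernel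

theorem c_alE : allLt (fun s => Bool.rec true (tb alE s) (band (Nat.beq (Nat.mod 15600 s) 0)
    (Nat.beq (Nat.mod 0 (Nat.div 15600 s)) 0))) (Nat.succ (pop 4060 E)) = true := by decide +kernel

theorem c_H1 : band (fixOK st 0x3f9ffffff8 4043 Y0) (parts st 4060 Y0 100 D0 fun ls => allU (fun U s =>
      bor (tb U 4043) (Bool.rec true (bor (Nat.beq U (Nat.land Rb D0)) (Nat.beq s (1755 - 1)))
        (Nat.beq (1755 * (1755 - 1 - s) % 2304) 0))) 1755 ls 0 0) = true := by decide +kernel

theorem c_inj : band (allL (fun t => force (act st t (Nat.shiftLeft 1 0)) fun P =>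
      Nat.beq (Nat.land (Nat.land D0 Rc) P) P) [0x1051e, 0x171e, 0x1e0803, 0x1e1403, 0xd1d1e, 0x1f0e01, 0x1e01])
      (Nat.beq (List.rec E (fun t _ ih => Nat.land (act st t D0) ih) [0x1051e, 0x171e, 0x1e0803, 0x1e1403, 0xd1d1e, 0x1f0e01, 0x1e01]) (Nat.shiftLeft 1 1)) = true := by decide +kernel

theorem c_H2 : band (fixOK st 0x3f9ffffff8 1 (sing P.L1.hs)) (force (1755 - pop 4060 (Nat.land Rc D0)) fun j =>
      parts st 4060 (sing P.L1.hs) 100 E fun ls => allU (fun U s => Bool.rec true (Nat.beq U (Nat.land Rc E)) (Nat.beq s j))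
        j ls 0 0) = true := by decide +kernel

theorem c_L1 : band (band (allL (rowOK st 4060 0 D0) []) (fixOK st 0x3f9ffffff8 4043 Y0))
      (band (allL (fun r => band (rowOK st 4060 0 D0 r) (tb (2 ^ 315) (pop 4060 (Nat.land r.2.2 (Nat.land Rb D0)))))
        [(0x1b1f, 2308, Rz)]) (cover st Y0 (fun r => Nat.shiftLeft 1 r.2.1) [(0x1b1f, 2308, Rz)]
          (Nat.xor D0 (Nat.land D0 (Nat.lor Rb (Nat.shiftLeft 1 4043)))))) = true := by decide +kernel

theorem c_L2 : force (pop 4060 (Nat.land Rc D0)) (fun j => parts st 4060 (sing P.L1.hs) 100 D0 fun ls => allU (fun U s =>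
      Bool.rec true (bor (anyL (fun r : ℕ × ℕ × ℕ => Bool.rec (tb U r.2.1) false (tb (2 ^ 315) (pop 4060 (Nat.land r.2.2 U)))) [])
        (decide (U ∈ [Nat.land Rc D0]))) (Nat.beq s j)) j ls 0 0) = true := by decide +kernel

theorem c_good : band (force (act st 0x6010501 (Nat.shiftLeft 1 0)) fun P => Nat.beq (Nat.land E P) P)
      (Nat.beq (Nat.land (act st 0x6010501 D0) D0) (Nat.land Rc D0)) = true := by decide +kernel

theorem c_N : normOK sT XT Nw ys [[[0xe190d, 0xe190d, 0xe190d, 0xe190d], [25, 25, 25, 25, 0xe190d, 0xe190d]], [[25, 25, 25, 0xe190d, 0xe190d, 0xe190d], [25, 0xe190d, 0xe190d, 0xe190d]], [[0xe190d], [25, 25, 25]], [[25, 25, 25, 25], [0xe190d, 0xe190d, 0xe190d, 0xe190d]], [[25, 25], [0xe190d, 0xe190d]], [[25], [0xe190d]], [[25, 25, 25], [0xe190d, 0xe190d, 0xe190d]], [[0xe190d, 0xe190d], [25]]] = true := by decide +kernel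

theorem c_cov : cover st (sing Nw) (fun kd : Kid => act st kd.1 (1 <<< 1)) [k0, k1, k2, k3] E = true := by decide +kernel

end CfsgLib.Ru.R3
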